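import Groth.Agent.Lib.SmoothReg17.Basic
import Groth.Prelude.Def_EGA4b
import Mathlib.RingTheory.Smooth.IntegralClosure
import Mathlib.RingTheory.Flat.FaithfullyFlat.Algebra
import Mathlib.RingTheory.Spectrum.Prime.Topology
import Mathlib.RingTheory.LocalProperties.Reduced
import Mathlib.RingTheory.RingHom.Smooth

/-!
# Normality is local for smooth algebras
-/

universe u

open scoped TensorProduct

namespace Groth.Agent.NormalSmooth12

/-- Transport of being an integrally closed domain along a ring isomorphism. -/
theorem normalDomain_of_ringEquiv {R S : Type u} [CommRing R] [CommRing S] (e : R ≃+* S)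
    (h : IsDomain R ∧ IsIntegrallyClosed R) : IsDomain S ∧ IsIntegrallyClosed S := by
  obtain ⟨hd, hi⟩ := h
  exact ⟨MulEquiv.isDomain R e.symm.toMulEquiv, IsIntegrallyClosed.of_equiv e⟩

/-- Localizations of normal rings are normal. -/
theorem isNormalRing_localization {C : Type u} [CommRing C] (hC : EGA4.IsNormalRing C)
    (M : Submonoid C) (C' : Type u) [CommRing C'] [Algebra C C'] [IsLocalization M C'] :
    EGA4.IsNormalRing C' := by
  intro P hP
  let q := P.comap (algebraMap C C')
  have : IsLocalization.AtPrime (Localization.AtPrime P) q :=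
    IsLocalization.isLocalization_isLocalization_atPrime_isLocalization M (Localization.AtPrime P) P
  exact normalDomain_of_ringEquiv (IsLocalization.algEquiv q.primeCompl (Localization.AtPrime q)
    (Localization.AtPrime P)).toRingEquiv (hC q)

/-- An element which is integral over a localization, for an integrally closed extension. -/
theorem exists_of_isIntegral_localization {B C : Type u} [CommRing B] [CommRing C] [Algebra B C]
    (hBC : ∀ c : C, IsIntegral B c → ∃ b, algebraMap B C b = c) (M : Submonoid B)
    {B' C' : Type u} [CommRing B'] [CommRing C'] [Algebra B B'] [IsLocalization M B'] [Algebra C C']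
    [IsLocalization (Algebra.algebraMapSubmonoid C M) C'] [Algebra B' C'] [Algebra B C']
    [IsScalarTower B B' C'] [IsScalarTower B C C'] (x : C') (hx : IsIntegral B' x) :
    ∃ d, algebraMap B' C' d = x := by
  obtain ⟨⟨c, ⟨_, s, hs, rfl⟩⟩, hcs⟩ :=
    IsLocalization.surj (Algebra.algebraMapSubmonoid C M) x
  have hc : IsIntegral B' (algebraMap C C' c) := by
    rw [← hcs, ← IsScalarTower.algebraMap_apply B C C', IsScalarTower.algebraMap_apply B B' C']
    exact hx.mul isIntegral_algebraMap
  obtain ⟨⟨t, ht⟩, hti⟩ := IsIntegral.exists_multiple_integral_of_isLocalization M _ hc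
  rw [Submonoid.mk_smul, Algebra.smul_def, IsScalarTower.algebraMap_apply B C C', ← map_mul] at hti
  obtain ⟨g, hg, hg0⟩ := hti
  rw [← Polynomial.aeval_def, Polynomial.aeval_algebraMap_apply] at hg0
  obtain ⟨⟨_, u, hu, rfl⟩, hu0⟩ :=
    (IsLocalization.map_eq_zero_iff (Algebra.algebraMapSubmonoid C M) C' _).1 hg0
  obtain ⟨b, hb⟩ := hBC (algebraMap B C u * (algebraMap B C t * c)) (by
    rcases eq_or_ne g.natDegree 0 with hn | hn
    · have : g = 1 := Polynomial.eq_one_of_monic_natDegree_zero hg hn
      rw [this, map_one, mul_one] at hu0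
      rw [show algebraMap B C u = 0 from hu0, zero_mul]
      exact isIntegral_zero
    · refine ⟨g.scaleRoots u, (Polynomial.monic_scaleRoots_iff u).2 hg, ?_⟩
      rw [Polynomial.scaleRoots_eval₂_mul, ← Polynomial.aeval_def]
      obtain ⟨k, hk⟩ := Nat.exists_eq_succ_of_ne_zero hn
      rw [hk, pow_succ, mul_assoc]
      simp only at hu0
      rw [hu0, mul_zero])
  refine ⟨IsLocalization.mk' B' b ⟨u * t * s, mul_mem (mul_mem hu ht) hs⟩, ?_⟩
  have hunit : IsUnit (algebraMap B C' (u * t * s)) := by
    rw [IsScalarTower.algebraMap_apply B B' C']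
    exact (IsLocalization.map_units B' (⟨_, mul_mem (mul_mem hu ht) hs⟩ : M)).map _
  refine hunit.mul_left_injective ?_
  dsimp only
  rw [IsScalarTower.algebraMap_apply B B' C' (u * t * s), ← map_mul, IsLocalization.mk'_spec,
    ← IsScalarTower.algebraMap_apply, ← IsScalarTower.algebraMap_apply,
    IsScalarTower.algebraMap_apply B C C' b, hb, IsScalarTower.algebraMap_apply B C C' (u * t * s),
    map_mul, map_mul, map_mul, map_mul, map_mul, ← hcs]
  simp only [map_mul]
  ring

/-- A Noetherian ring whose local rings are domains and without nontrivial idempotents is a domain. -/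
theorem isDomain_of_isNormalRing {C : Type u} [CommRing C] [IsNoetherianRing C] [Nontrivial C]
    (hC : EGA4.IsNormalRing C) (he : ∀ e : C, IsIdempotentElem e → e = 0 ∨ e = 1) : IsDomain C := by
  have hred : IsReduced C := isReduced_ofLocalizationMaximal C fun m hm =>
    have := (hC m).1; inferInstance
  have key : ∀ P₁ ∈ minimalPrimes C, ∀ P₂ : Ideal C, P₂.IsPrime → ∀ M : Ideal C, M.IsPrime →
      P₁ ≤ M → P₂ ≤ M → P₁ ≤ P₂ := by
    intro P₁ hP₁ P₂ hP₂ M hM h₁ h₂ x hx
    have := (hC M).1
    have := Ideal.minimalPrimes_isPrime hP₁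
    obtain ⟨t, htx⟩ : ∃ t, t ∉ M ∧ t * x = 0 := by
      have hJ : RingHom.ker (algebraMap C (Localization.AtPrime M)) ≤ P₁ := fun c hc => by
        obtain ⟨t, ht⟩ := (IsLocalization.map_eq_zero_iff M.primeCompl _ _).1 hc
        exact (Ideal.IsPrime.mem_or_mem ‹P₁.IsPrime› (ht ▸ P₁.zero_mem)).resolve_left
          fun h' => t.2 (h₁ h')
      have h0 : algebraMap C (Localization.AtPrime M) x = 0 :=
        hP₁.2 ⟨RingHom.ker_isPrime _, bot_le⟩ hJ hx
      obtain ⟨t, ht⟩ := (IsLocalization.map_eq_zero_iff M.primeCompl _ _).1 h0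
      exact ⟨t, t.2, ht⟩
    exact (hP₂.mem_or_mem (htx.2 ▸ P₂.zero_mem)).resolve_left fun h => htx.1 (h₂ h)
  obtain ⟨P₀, hP₀⟩ := Ideal.nonempty_minimalPrimes (bot_lt_top (α := Ideal C)).ne
  have hP₀p : P₀.IsPrime := Ideal.minimalPrimes_isPrime hP₀
  have hfin : (minimalPrimes C \ {P₀}).Finite :=
    (minimalPrimes.finite_of_isNoetherianRing C).subset Set.sdiff_subset
  have hcompl : (PrimeSpectrum.zeroLocus (P₀ : Set C))ᶜ =
      ⋃ P ∈ minimalPrimes C \ {P₀}, PrimeSpectrum.zeroLocus (P : Set C) := by
    ext M
    simp only [Set.mem_compl_iff, PrimeSpectrum.mem_zeroLocus, Set.mem_iUnion, SetLike.coe_subset_coe]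
    constructor
    · intro hM
      obtain ⟨P, hP, hPM⟩ := Ideal.exists_minimalPrimes_le (bot_le : ⊥ ≤ M.asIdeal)
      exact ⟨P, ⟨hP, fun h => hM (h ▸ hPM)⟩, hPM⟩
    · rintro ⟨P, ⟨hP, hne⟩, hPM⟩ hM
      have := Ideal.minimalPrimes_isPrime hP
      exact hne (le_antisymm (key P hP P₀ hP₀p M.asIdeal M.isPrime hPM hM)
        (key P₀ hP₀ P this M.asIdeal M.isPrime hM hPM))
  have hclopen : IsClopen (PrimeSpectrum.zeroLocus (P₀ : Set C)) :=
    ⟨PrimeSpectrum.isClosed_zeroLocus _, by
      rw [← isClosed_compl_iff, hcompl]
      exact hfin.isClosed_biUnion fun _ _ => PrimeSpectrum.isClosed_zeroLocus _⟩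
  obtain ⟨e, hee, heq⟩ := PrimeSpectrum.exists_idempotent_basicOpen_eq_of_isClopen hclopen
  have hmem : (⟨P₀, hP₀p⟩ : PrimeSpectrum C) ∈ PrimeSpectrum.zeroLocus (P₀ : Set C) :=
    (PrimeSpectrum.mem_zeroLocus _ _).2 fun _ h => h
  have hbot : P₀ = ⊥ := by
    rcases he e hee with rfl | rfl
    · rw [heq] at hmem
      simp at hmem
    · refine le_antisymm (fun x hx => ?_) bot_le
      refine (Submodule.mem_bot C).2 (IsNilpotent.eq_zero (nilpotent_iff_mem_prime.2 fun J hJ => ?_))
      have : (⟨J, hJ⟩ : PrimeSpectrum C) ∈ PrimeSpectrum.zeroLocus (P₀ : Set C) := by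
        rw [heq]; simp
      exact (PrimeSpectrum.mem_zeroLocus _ _).1 this hx
  subst hbot
  have : IsDomain (C ⧸ (⊥ : Ideal C)) := (Ideal.Quotient.isDomain_iff_prime _).2 hP₀p
  exact MulEquiv.isDomain (C ⧸ (⊥ : Ideal C)) (RingEquiv.quotientBot C).symm.toMulEquiv

/-- A smooth algebra over a field is normal. -/
theorem isNormalRing_of_smooth_field {K C : Type u} [Field K] [CommRing C] (f : K →+* C)
    (hf : f.Smooth) : EGA4.IsNormalRing C := by
  intro q hq
  have := SmoothReg17.isRegularLocalRing_of_smooth f hf q
  have := RegLoc.isDomain (Localization.AtPrime q)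
  have := RegLoc.ufd_of_isRegularLocalRing (Localization.AtPrime q)
  exact ⟨inferInstance, inferInstance⟩

/-- A smooth algebra over a normal domain is normal. -/
theorem isNormalRing_of_smooth_domain {R B : Type u} [CommRing R] [IsDomain R]
    [IsIntegrallyClosed R] [CommRing B] [Algebra R B] [Algebra.Smooth R B] :
    EGA4.IsNormalRing B := by
  intro Q hQ
  let K := FractionRing R
  let C := B ⊗[R] K
  let f : K →+* C := (Algebra.TensorProduct.includeRight : K →ₐ[R] C).toRingHom
  have hf : f.Smooth := by
    have h1 : (algebraMap K (K ⊗[R] B)).Smooth := RingHom.smooth_algebraMap.2 inferInstance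
    have h2 := RingHom.Smooth.comp h1
      (RingHom.Smooth.of_bijective (Algebra.TensorProduct.comm R K B).bijective :
        ((Algebra.TensorProduct.comm R K B).toRingEquiv.toRingHom).Smooth)
    convert h2 using 1
    ext k
    simp [f]
  have hC : EGA4.IsNormalRing C := isNormalRing_of_smooth_field f hf
  have : IsNoetherianRing C := by
    algebraize [f]
    have : Algebra.Smooth K C := hf
    exact Algebra.FiniteType.isNoetherianRing K C
  have : Module.Flat R B := Algebra.Smooth.flat R B
  have hinj : Function.Injective (algebraMap B C) :=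
    Algebra.TensorProduct.includeLeft_injective (R := R) (S := B) (IsFractionRing.injective R K)
  have hBC : ∀ c : C, IsIntegral B c → ∃ b, algebraMap B C b = c := by
    intro c hc
    obtain ⟨z, hz⟩ := (TensorProduct.toIntegralClosure_bijective_of_smooth
      (R := R) (S := B) (B := K)).2 ⟨c, hc⟩
    suffices h : (TensorProduct.toIntegralClosure R B K z : C) ∈ Set.range (algebraMap B C) by
      rw [hz] at h; exact h
    clear hz
    induction z with
    | zero => exact ⟨0, by simp⟩
    | add x y hx hy =>
      obtain ⟨a, ha⟩ := hx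
      obtain ⟨b, hb⟩ := hy
      exact ⟨a + b, by rw [map_add, map_add, ha, hb]; rfl⟩
    | tmul x y =>
      obtain ⟨r, hr⟩ := IsIntegrallyClosed.algebraMap_eq_of_integral y.2
      refine ⟨r • x, ?_⟩
      rw [Algebra.TensorProduct.algebraMap_apply, Algebra.algebraMap_self, RingHom.id_apply,
        TensorProduct.smul_tmul]
      simp [TensorProduct.toIntegralClosure, ← hr, Algebra.algebraMap_eq_smul_one]
  let M := Algebra.algebraMapSubmonoid C Q.primeCompl
  let L := Localization M
  let D := Localization.AtPrime Q
  have : IsLocalization M L := Localization.isLocalization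
  have : IsLocalization (Submonoid.map (algebraMap B C) Q.primeCompl) L := this
  have : IsScalarTower B D L := inferInstance
  have hDL : Function.Injective (algebraMap D L) :=
    IsLocalization.map_injective_of_injective Q.primeCompl D L hinj
  have : Nontrivial L := hDL.nontrivial
  have : IsNoetherianRing L := IsLocalization.isNoetherianRing M L inferInstance
  have hint : ∀ x : L, IsIntegral D x → ∃ d, algebraMap D L d = x :=
    fun x hx => exists_of_isIntegral_localization (B' := D) (C' := L) hBC Q.primeCompl x hx
  have hL : EGA4.IsNormalRing L := isNormalRing_localization hC M L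
  have hdom : IsDomain L := isDomain_of_isNormalRing hL fun e he => by
    obtain ⟨d, rfl⟩ := hint e ⟨Polynomial.X ^ 2 - Polynomial.X,
      Polynomial.monic_X_pow_sub (by rw [Polynomial.degree_X]; norm_num), by
        simp [pow_two, he.eq]⟩
    have hd : IsIdempotentElem d := hDL (by rw [map_mul]; exact he)
    rcases IsLocalRing.isUnit_or_isUnit_one_sub_self d with h | h
    · exact Or.inr (by rw [(IsIdempotentElem.iff_eq_one_of_isUnit h).1 hd, map_one])
    · refine Or.inl ?_
      rw [show d = 0 by simpa using (IsIdempotentElem.iff_eq_one_of_isUnit h).1 hd.one_sub,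
        map_zero]
  have : IsDomain D := hDL.isDomain _
  have : IsIntegrallyClosed L := IsIntegrallyClosed.of_localization_maximal fun m _ _ => (hL m).2
  refine ⟨inferInstanceAs (IsDomain D), (isIntegrallyClosed_iff (FractionRing D)).2 fun {x} hx => ?_⟩
  have hDFL : Function.Injective (algebraMap D (FractionRing L)) := by
    rw [IsScalarTower.algebraMap_eq D L (FractionRing L)]
    exact (IsFractionRing.injective L (FractionRing L)).comp hDL
  let g : FractionRing D →ₐ[D] FractionRing L :=
    IsFractionRing.liftAlgHom (g := Algebra.ofId D (FractionRing L)) hDFL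
  obtain ⟨l, hl⟩ := IsIntegrallyClosed.algebraMap_eq_of_integral ((hx.map g).tower_top (A := L))
  obtain ⟨d, rfl⟩ := hint l ((isIntegral_algebraMap_iff
    (IsFractionRing.injective L (FractionRing L))).1 (hl ▸ hx.map g))
  refine ⟨d, g.toRingHom.injective ?_⟩
  rw [show g.toRingHom (algebraMap D (FractionRing D) d) = algebraMap D (FractionRing L) d from
    g.commutes d, IsScalarTower.algebraMap_apply D L (FractionRing L)]
  exact hl

/-- A smooth algebra over a normal ring is normal. -/
theorem isNormalRing_of_smooth {A B : Type u} [CommRing A] [CommRing B] [Algebra A B]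
    [Algebra.Smooth A B] (hA : EGA4.IsNormalRing A) : EGA4.IsNormalRing B := by
  intro Q hQ
  let p := Q.comap (algebraMap A B)
  let Ap := Localization.AtPrime p
  have := (hA p).1
  have := (hA p).2
  let M := Algebra.algebraMapSubmonoid B p.primeCompl
  let B' := Ap ⊗[A] B
  let := (Algebra.TensorProduct.rightAlgebra : Algebra B B')
  have : IsLocalization M B' := IsLocalization.tensorRight (R := A) (A := Ap) (S := B) p.primeCompl
  have hdisj : Disjoint (M : Set B) (Q : Set B) := by
    rw [Set.disjoint_left]
    rintro _ ⟨a, ha, rfl⟩ hx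
    exact ha hx
  let Q' : Ideal B' := Q.map (algebraMap B B')
  have : Q'.IsPrime := IsLocalization.isPrime_of_isPrime_disjoint M B' Q hQ hdisj
  have hcomap : Q'.comap (algebraMap B B') = Q :=
    IsLocalization.comap_map_of_isPrime_disjoint M B' hQ hdisj
  have : IsLocalization.AtPrime (Localization.AtPrime Q') Q := by
    have := IsLocalization.isLocalization_isLocalization_atPrime_isLocalization M
      (Localization.AtPrime Q') Q'
    simpa only [hcomap] using this
  exact normalDomain_of_ringEquiv (IsLocalization.algEquiv Q.primeCompl (Localization.AtPrime Q')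
    (Localization.AtPrime Q)).toRingEquiv (isNormalRing_of_smooth_domain (R := Ap) Q')

/-- Normality of domains descends along faithfully flat maps. -/
theorem normalDomain_of_faithfullyFlat (R S : Type u) [CommRing R] [CommRing S] [Algebra R S]
    [Module.FaithfullyFlat R S] (h : IsDomain S ∧ IsIntegrallyClosed S) :
    IsDomain R ∧ IsIntegrallyClosed R := by
  have := h.1
  have := h.2
  have hinj : Function.Injective (algebraMap R S) := FaithfulSMul.algebraMap_injective R S
  have : IsDomain R := hinj.isDomain _
  refine ⟨inferInstanceAs (IsDomain R), (isIntegrallyClosed_iff (FractionRing R)).2 fun {x} hx => ?_⟩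
  obtain ⟨⟨a, b⟩, hab⟩ := IsLocalization.surj (nonZeroDivisors R) x
  let g : FractionRing R →ₐ[R] FractionRing S :=
    IsFractionRing.liftAlgHom (g := Algebra.ofId R (FractionRing S)) (by
      show Function.Injective (algebraMap R (FractionRing S))
      rw [IsScalarTower.algebraMap_eq R S (FractionRing S)]
      exact (IsFractionRing.injective S (FractionRing S)).comp hinj)
  obtain ⟨s, hs⟩ := IsIntegrallyClosed.algebraMap_eq_of_integral ((hx.map g).tower_top (A := S))
  have heq : s * algebraMap R S b = algebraMap R S a := by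
    apply IsFractionRing.injective S (FractionRing S)
    rw [map_mul, hs, ← IsScalarTower.algebraMap_apply, ← IsScalarTower.algebraMap_apply,
      ← g.commutes, ← g.commutes, ← map_mul, hab]
  have hmem : a ∈ Ideal.span {(b : R)} := by
    rw [← Ideal.comap_map_eq_self_of_faithfullyFlat (A := R) (B := S) (Ideal.span {(b : R)}),
      Ideal.mem_comap, Ideal.map_span, Set.image_singleton, Ideal.mem_span_singleton']
    exact ⟨s, heq⟩
  obtain ⟨r, hr⟩ := Ideal.mem_span_singleton'.1 hmem
  refine ⟨r, (IsLocalization.map_units (FractionRing R) b).mul_left_injective ?_⟩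
  dsimp only
  rw [← map_mul, hr, hab]

/-- Normality descends along faithfully flat maps. -/
theorem isNormalRing_of_faithfullyFlat {A B : Type u} [CommRing A] [CommRing B] [Algebra A B]
    [Module.FaithfullyFlat A B] (hB : EGA4.IsNormalRing B) : EGA4.IsNormalRing A := by
  intro p hp
  obtain ⟨q, hq, hqp⟩ := Ideal.exists_isPrime_liesOver_of_faithfullyFlat (A := A) (B := B) p
  let S := Localization.AtPrime q
  let R := Localization.AtPrime p
  let : Algebra R S := Localization.AtPrime.algebraOfLiesOver p q
  have : Localization.AtPrime.IsLiesOverAlgebra p q := ⟨rfl⟩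
  have : Module.Flat R S := inferInstance
  have : IsLocalHom (algebraMap R S) := Localization.isLocalHom_localRingHom p q _ _
  have : Module.FaithfullyFlat R S := Module.FaithfullyFlat.of_flat_of_isLocalHom
  exact normalDomain_of_faithfullyFlat R S (hB q)

end Groth.Agent.NormalSmooth12
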